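import Mathlib.CategoryTheory.Monoidal.Cartesian.Grp
import Mathlib.CategoryTheory.Limits.HasLimits

/-! A limit of group objects is a limit of the underlying objects, when the latter exists. -/

universe w v u

open CategoryTheory Limits MonoidalCategory CartesianMonoidalCategory MonObj GrpObj

namespace Groth.Agent.TorsLim

variable {C : Type u} [Category.{v} C] [CartesianMonoidalCategory C] {I : Type w} [Category I]
  (D : I ⥤ Grp C)

section

variable {D} {c : Cone (D ⋙ Grp.forget C)} (hc : IsLimit c)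

/-- A projection, with target typed as the underlying object of a group. -/
abbrev pr (c : Cone (D ⋙ Grp.forget C)) (i : I) : c.pt ⟶ (D.obj i).X := c.π.app i

theorem pr_w {i j : I} (f : i ⟶ j) : pr c i ≫ (D.map f).hom.hom = pr c j := c.w f

/-- The morphism to the limit given by a compatible family. -/
noncomputable def lft {T : C} (x : ∀ i, T ⟶ (D.obj i).X)
    (hx : ∀ {i j : I} (f : i ⟶ j), x i ≫ (D.map f).hom.hom = x j) : T ⟶ c.pt :=
  hc.lift ⟨T, { app := x, naturality := fun _ _ f => (Category.id_comp _).trans (hx f).symm }⟩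

theorem lft_pr {T : C} (x : ∀ i, T ⟶ (D.obj i).X)
    (hx : ∀ {i j : I} (f : i ⟶ j), x i ≫ (D.map f).hom.hom = x j) (i : I) : lft hc x hx ≫ pr c i = x i :=
  hc.fac _ i

include hc in
theorem pr_ext {T : C} {a b : T ⟶ c.pt} (h : ∀ i, a ≫ pr c i = b ≫ pr c i) : a = b := hc.hom_ext h

theorem tens_mul {A B M : C} [MonObj M] (a : A ⟶ M) (b : B ⟶ M) :
    (a ⊗ₘ b) ≫ μ[M] = (fst A B ≫ a) * (snd A B ≫ b) := by
  rw [Hom.mul_def]
  congr 1
  ext <;> simp

/-- The group structure on a limit of the underlying objects. -/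
@[implicit_reducible]
noncomputable def grpObjOfIsLimit : GrpObj c.pt where
  one := lft hc (fun i => η[(D.obj i).X]) fun f => IsMonHom.one_hom _
  mul := lft hc (fun i => (pr c i ⊗ₘ pr c i) ≫ μ[(D.obj i).X]) fun f => by
    rw [Category.assoc, IsMonHom.mul_hom, tensorHom_comp_tensorHom_assoc, pr_w]
  inv := lft hc (fun i => pr c i ≫ GrpObj.inv (X := (D.obj i).X)) fun f => by
    rw [Category.assoc, GrpObj.inv_hom, ← Category.assoc, pr_w]
  one_mul := pr_ext hc fun i => by
    rw [Category.assoc, lft_pr, ← tensorHom_id, tensorHom_comp_tensorHom_assoc, lft_pr, Category.id_comp, tens_mul,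
      show fst (𝟙_ C) c.pt ≫ η[(D.obj i).X] = 1 by rw [MonObj.one_eq_one, MonObj.comp_one], _root_.one_mul,
      leftUnitor_hom]
  mul_one := pr_ext hc fun i => by
    rw [Category.assoc, lft_pr, ← id_tensorHom, tensorHom_comp_tensorHom_assoc, lft_pr, Category.id_comp, tens_mul,
      show snd c.pt (𝟙_ C) ≫ η[(D.obj i).X] = 1 by rw [MonObj.one_eq_one, MonObj.comp_one], _root_.mul_one,
      rightUnitor_hom]
  mul_assoc := pr_ext hc fun i => by
    simp only [Category.assoc, lft_pr]
    rw [← id_tensorHom, ← tensorHom_id, tensorHom_comp_tensorHom_assoc, tensorHom_comp_tensorHom_assoc, lft_pr,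
      Category.id_comp]
    simp only [tens_mul, MonObj.comp_mul, associator_hom_fst_assoc, associator_hom_snd_fst_assoc,
      associator_hom_snd_snd_assoc, _root_.mul_assoc]
  left_inv := pr_ext hc fun i => by
    simp only [Category.assoc, lft_pr]
    rw [lift_map_assoc, lft_pr, Category.id_comp]
    show (pr c i)⁻¹ * pr c i = toUnit _ ≫ η
    rw [inv_mul_cancel]
    rfl
  right_inv := pr_ext hc fun i => by
    simp only [Category.assoc, lft_pr]
    rw [lift_map_assoc, lft_pr, Category.id_comp]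
    show pr c i * (pr c i)⁻¹ = toUnit _ ≫ η
    rw [mul_inv_cancel]
    rfl

end

/-- The underlying cone of a limit cone of group objects is a limit cone. -/
theorem isLimit_forget [HasLimit (D ⋙ Grp.forget C)] {c : Cone D} (hc : IsLimit c) :
    Nonempty (IsLimit ((Grp.forget C).mapCone c)) := by
  let l := limit.cone (D ⋙ Grp.forget C)
  let hl : IsLimit l := limit.isLimit _
  letI : GrpObj l.pt := grpObjOfIsLimit hl
  have hπ : ∀ i, IsMonHom (M := l.pt) (N := (D.obj i).X) (l.π.app i) := fun i => ⟨hl.fac _ i, hl.fac _ i⟩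
  let c' : Cone D := ⟨Grp.mk l.pt,
    { app := fun i => Grp.homMk'' (l.π.app i) (hπ i).one_hom (hπ i).mul_hom
      naturality := fun i j f => by
        ext
        exact l.π.naturality f }⟩
  let a : l.pt ⟶ c.pt.X := (hc.lift c').hom.hom
  let b : c.pt.X ⟶ l.pt := hl.lift ((Grp.forget C).mapCone c)
  have ha : ∀ i, a ≫ (c.π.app i).hom.hom = l.π.app i := fun i =>
    congrArg (fun z : c'.pt ⟶ D.obj i => z.hom.hom) (hc.fac c' i)
  have hb : ∀ i, b ≫ l.π.app i = (c.π.app i).hom.hom := fun i => hl.fac _ i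
  haveI : IsMonHom b :=
    { one_hom := hl.hom_ext fun i => by
        rw [Category.assoc, hb]
        exact (IsMonHom.one_hom (c.π.app i).hom.hom).trans (hπ i).one_hom.symm
      mul_hom := hl.hom_ext fun i => by
        rw [Category.assoc, Category.assoc, hb]
        refine (IsMonHom.mul_hom (c.π.app i).hom.hom).trans ?_
        refine Eq.trans ?_ (congrArg ((b ⊗ₘ b) ≫ ·) (hπ i).mul_hom.symm)
        refine Eq.trans ?_ (tensorHom_comp_tensorHom_assoc _ _ _ _ _).symm
        exact congrArg (fun z : c.pt.X ⟶ (D.obj i).X => (z ⊗ₘ z) ≫ μ[(D.obj i).X]) (hb i).symm }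
  have hab : b ≫ a = 𝟙 _ := by
    let e : c.pt ⟶ c.pt := Grp.homMk'' b (IsMonHom.one_hom b) (IsMonHom.mul_hom b) ≫ hc.lift c'
    have he : e = 𝟙 _ := hc.hom_ext fun i => by
      rw [Category.assoc, hc.fac, Category.id_comp]
      ext
      exact hb i
    exact congrArg (fun z : c.pt ⟶ c.pt => z.hom.hom) he
  have hba : a ≫ b = 𝟙 _ := hl.hom_ext fun i => ((Category.assoc a b _).trans ((congrArg (a ≫ ·) (hb i)).trans ((ha i).trans (Category.id_comp _).symm)) : _)
  exact ⟨hl.ofIsoLimit (Cone.ext ⟨a, b, hba, hab⟩ fun i => (ha i).symm)⟩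

end Groth.Agent.TorsLim
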