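import Groth.Prelude.Def_ChGrp
import Groth.Agent.SchTorsor.Props
import Groth.Agent.EtFound.Descent
import Mathlib.AlgebraicGeometry.AffineTransitionLimit
import Mathlib.CategoryTheory.Limits.Constructions.Over.Connected
import Mathlib.Algebra.Category.Ring.FilteredColimits

/-! Cofiltered limits of torsors. -/

universe u

open CategoryTheory Limits MonoidalCategory CartesianMonoidalCategory MonObj GrpObj AlgebraicGeometry

namespace Groth.Agent.TorsLim

variable {X : Scheme.{u}} {I : Type u} [SmallCategory I]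

/-- A limit of pseudo-torsors is a pseudo-torsor. -/
theorem isPseudoTorsor {G T : Over X} [GrpObj G] {Gi Ti : I → Over X} [∀ i, GrpObj (Gi i)]
    (a : AlgGrp.Action G T) (ai : ∀ i, AlgGrp.Action (Gi i) (Ti i))
    (p : ∀ i, G ⟶ Gi i) (q : ∀ i, T ⟶ Ti i) (mg : ∀ ⦃i j : I⦄, (i ⟶ j) → (Gi i ⟶ Gi j))
    (mt : ∀ ⦃i j : I⦄, (i ⟶ j) → (Ti i ⟶ Ti j))
    (hai : ∀ i, NonAbH1.IsPseudoTorsorSch (ai i)) (hw : ∀ ⦃i j : I⦄ (f : i ⟶ j), q i ≫ mt f = q j)
    (heq : ∀ ⦃i j : I⦄ (f : i ⟶ j), (ai i).act ≫ mt f = (mg f ⊗ₘ mt f) ≫ (ai j).act)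
    (heqp : ∀ i, a.act ≫ q i = (p i ⊗ₘ q i) ≫ (ai i).act)
    (hG : ∀ (W : Over X) (x : ∀ i, W ⟶ Gi i), (∀ ⦃i j : I⦄ (f : i ⟶ j), x i ≫ mg f = x j) →
      ∃ g : W ⟶ G, ∀ i, g ≫ p i = x i)
    (hGe : ∀ (W : Over X) (g h : W ⟶ G), (∀ i, g ≫ p i = h ≫ p i) → g = h)
    (hTe : ∀ (W : Over X) (g h : W ⟶ T), (∀ i, g ≫ q i = h ≫ q i) → g = h) :
    NonAbH1.IsPseudoTorsorSch a := by
  have hpt : ∀ {W : Over X} (g : W ⟶ G) (x : W ⟶ T) (i : I),
      (lift g x ≫ a.act) ≫ q i = lift (g ≫ p i) (x ≫ q i) ≫ (ai i).act := fun g x i => by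
    rw [Category.assoc, heqp, lift_map_assoc]
  refine (isIso_iff_yoneda_map_bijective _).2 fun W => ⟨fun z w h => ?_, fun z => ?_⟩
  · have h1 := congrArg (· ≫ fst T T) h
    have h2 := congrArg (· ≫ snd T T) h
    simp only [Category.assoc, lift_fst, lift_snd] at h1 h2
    refine CartesianMonoidalCategory.hom_ext _ _ (hGe W _ _ fun i => SchTorsor.act_free (hai i) (y := (z ≫ snd G T) ≫ q i) ?_) h2
    have e1 : z = lift (z ≫ fst G T) (z ≫ snd G T) := by ext <;> simp
    have e2 : w = lift (w ≫ fst G T) (z ≫ snd G T) := by ext <;> simp [h2]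
    rw [← hpt, ← hpt, ← e1, ← e2, h1]
  · have hex : ∀ i, ∃ g : W ⟶ Gi i, lift g ((z ≫ snd T T) ≫ q i) ≫ (ai i).act = (z ≫ fst T T) ≫ q i :=
      fun i => SchTorsor.exists_div (hai i) _ _
    choose g hg using hex
    obtain ⟨g₀, hg₀⟩ := hG W g fun i j f => by
      refine SchTorsor.act_free (hai j) (y := (z ≫ snd T T) ≫ q j) ?_
      have h := congrArg (· ≫ mt f) (hg i)
      simp only [Category.assoc, heq, lift_map_assoc, hw f] at h
      rw [hg]
      simpa only [Category.assoc] using h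
    refine ⟨lift g₀ (z ≫ snd T T), ?_⟩
    apply CartesianMonoidalCategory.hom_ext
    · show (lift g₀ (z ≫ snd T T) ≫ lift a.act (snd G T)) ≫ fst T T = z ≫ fst T T
      rw [Category.assoc, lift_fst]
      exact hTe W _ _ fun i => by rw [hpt, hg₀, hg]
    · show (lift g₀ (z ≫ snd T T) ≫ lift a.act (snd G T)) ≫ snd T T = z ≫ snd T T
      simp

/-- A filtered colimit of flat algebras is flat. -/
theorem flat_of_isColimit {J : Type u} [SmallCategory J] [IsFiltered J] {D : J ⥤ CommRingCat.{u}} {c : Cocone D}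
    (hc : IsColimit c) {R : CommRingCat.{u}} (φ : ∀ j, R ⟶ D.obj j) (hφ : ∀ ⦃i j⦄ (f : i ⟶ j), φ i ≫ D.map f = φ j)
    (hflat : ∀ j, (φ j).hom.Flat) (j₀ : J) : (φ j₀ ≫ c.ι.app j₀).hom.Flat := by
  classical
  let ψ := φ j₀ ≫ c.ι.app j₀
  have hψ : ∀ j, φ j ≫ c.ι.app j = ψ := fun j => by
    obtain ⟨k, a, b, -⟩ : ∃ (k : J) (a : j ⟶ k) (b : j₀ ⟶ k), True :=
      ⟨_, IsFiltered.leftToMax j j₀, IsFiltered.rightToMax j j₀, trivial⟩
    show _ = φ j₀ ≫ c.ι.app j₀
    rw [← c.w a, ← c.w b, ← Category.assoc, ← Category.assoc, hφ, hφ]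
  have hc' := isColimitOfPreserves (forget CommRingCat) hc
  letI : Algebra R c.pt := ψ.hom.toAlgebra
  show Module.Flat R c.pt
  rw [Module.Flat.iff_forall_isTrivialRelation]
  intro l f x hx
  choose ν z hz using fun i => Types.jointly_surjective_of_isColimit hc' (x i)
  obtain ⟨k, hk⟩ := IsFiltered.sup_objs_exists (insert j₀ (Finset.univ.image ν))
  let t : ∀ i, ν i ⟶ k := fun i => (hk (Finset.mem_insert_of_mem (Finset.mem_image_of_mem ν (Finset.mem_univ i)))).some
  let y : Fin l → D.obj k := fun i => D.map (t i) (z i)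
  have hy : ∀ i, c.ι.app k (y i) = x i := fun i => by
    rw [← hz i]
    exact ConcreteCategory.congr_hom (c.w (t i)) (z i)
  have hsum : c.ι.app k (∑ i, φ k (f i) * y i) = c.ι.app k 0 := by
    rw [map_sum, map_zero, ← hx]
    refine Finset.sum_congr rfl fun i _ => ?_
    rw [map_mul, hy, Algebra.smul_def]
    exact congrArg (· * x i) (ConcreteCategory.congr_hom (hψ k) (f i))
  obtain ⟨m, u, hu⟩ := (Types.FilteredColimit.isColimit_eq_iff' hc' _ _).1 hsum
  letI : Algebra R (D.obj m) := (φ m).hom.toAlgebra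
  haveI : Module.Flat R (D.obj m) := hflat m
  have h0 : ∑ i, f i • D.map u (y i) = 0 := by
    have h' : D.map u (∑ i, φ k (f i) * y i) = D.map u 0 := hu
    rw [map_sum, map_zero] at h'
    refine Eq.trans ?_ h'
    refine Finset.sum_congr rfl fun i _ => ?_
    rw [map_mul, Algebra.smul_def]
    exact congrArg (· * D.map u (y i)) (ConcreteCategory.congr_hom (hφ u) (f i)).symm
  obtain ⟨n, A, w, hw, hA⟩ := Module.Flat.isTrivialRelation_of_sum_smul_eq_zero h0
  refine ⟨n, A, fun j => c.ι.app m (w j), fun i => ?_, hA⟩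
  rw [← hy i, ← c.w u]
  show c.ι.app m (D.map u (y i)) = _
  rw [show D.map u (y i) = ∑ j, A i j • w j from hw i, map_sum]
  refine Finset.sum_congr rfl fun j _ => ?_
  rw [Algebra.smul_def, Algebra.smul_def, map_mul]
  exact congrArg (· * c.ι.app m (w j)) (ConcreteCategory.congr_hom (hψ m) (A i j))

variable [IsCofiltered I] {D : I ⥤ Over X} {c : Cone D} (hc : IsLimit c)

include hc in
/-- A cofiltered limit of affine, flat, surjective schemes over a base has the same properties. -/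
theorem limit_faithfullyFlat [∀ i, IsAffineHom (D.obj i).hom] [∀ i, Flat (D.obj i).hom] [∀ i, Surjective (D.obj i).hom] :
    IsAffineHom c.pt.hom ∧ Flat c.pt.hom ∧ Surjective c.pt.hom := by
  haveI := IsCofiltered.isConnected I
  have htr : ∀ {i j : I} (f : i ⟶ j), IsAffineHom ((D ⋙ Over.forget X).map f) := fun {i j} f => by
    have : IsAffineHom ((D.map f).left ≫ (D.obj j).hom) := by rw [Over.w]; infer_instance
    exact IsAffineHom.of_comp (D.map f).left (D.obj j).hom
  obtain ⟨i₀⟩ := IsCofiltered.nonempty (C := I)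
  have hc₀ := isLimitOfPreserves (Over.forget X) hc
  haveI : IsAffineHom (c.π.app i₀).left := isAffineHom_π_app (D ⋙ Over.forget X) _ hc₀ i₀
  haveI : IsAffineHom c.pt.hom := by
    have e : (c.π.app i₀).left ≫ (D.obj i₀).hom = c.pt.hom := Over.w (c.π.app i₀)
    exact e ▸ inferInstance
  refine ⟨inferInstance, ?_, ⟨fun x => ?_⟩⟩
  · refine IsZariskiLocalAtTarget.of_openCover X.affineCover fun k => ?_
    let v := X.affineCover.f k
    haveI : IsAffine (X.affineCover.X k) := inferInstance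
    let F := Over.pullback v
    let D' := (D ⋙ F) ⋙ Over.forget _
    have hc' : IsLimit ((Over.forget _).mapCone (F.mapCone c)) := isLimitOfPreserves _ (isLimitOfPreserves F hc)
    haveI : IsAffineHom (pullback.snd c.pt.hom v) := MorphismProperty.pullback_snd _ _ inferInstance
    haveI haff : ∀ i, IsAffine (D'.obj i) := fun i => @isAffine_of_isAffineHom _ _ (pullback.snd (D.obj i).hom v)
      (MorphismProperty.pullback_snd _ _ inferInstance) inferInstance
    haveI : ∀ i, IsAffine (F.obj (D.obj i)).left := haff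
    haveI : IsAffine (F.obj c.pt).left := isAffine_of_isAffineHom (pullback.snd c.pt.hom v)
    haveI : ∀ {i j : I} (f : i ⟶ j), IsAffineHom (D'.map f) := fun f => inferInstance
    obtain ⟨hcol⟩ := nonempty_isColimit_Γ_mapCocone D' _ hc'
    show Flat (pullback.snd c.pt.hom v)
    rw [HasRingHomProperty.iff_of_isAffine (P := @Flat)]
    have h := flat_of_isColimit hcol (fun i => (F.obj (D.obj i.unop)).hom.appTop) (fun i j f => by
        rw [← Over.w (F.map (D.map f.unop)), Scheme.Hom.comp_appTop]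
        rfl)
      (fun i => (HasRingHomProperty.iff_of_isAffine (P := @Flat)).1
        (MorphismProperty.pullback_snd (P := @Flat) (D.obj i.unop).hom v inferInstance)) (Opposite.op i₀)
    have e : (F.obj (D.obj i₀)).hom.appTop ≫ (F.map (c.π.app i₀)).left.appTop =
        (pullback.snd c.pt.hom v).appTop := by
      rw [← Scheme.Hom.comp_appTop, Over.w]
      rfl
    exact e ▸ h
  · let v := X.fromSpecResidueField x
    let F := Over.pullback v
    let D' := (D ⋙ F) ⋙ Over.forget _
    have hc' : IsLimit ((Over.forget _).mapCone (F.mapCone c)) := isLimitOfPreserves _ (isLimitOfPreserves F hc)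
    haveI : ∀ i, IsAffine (D'.obj i) := fun i => @isAffine_of_isAffineHom _ _ (pullback.snd (D.obj i).hom v)
      (MorphismProperty.pullback_snd _ _ inferInstance) inferInstance
    haveI : ∀ {i j : I} (f : i ⟶ j), IsAffineHom (D'.map f) := fun f => inferInstance
    haveI : ∀ i, Nonempty (D'.obj i) := fun i =>
      ⟨((MorphismProperty.pullback_snd (P := @Surjective) (D.obj i).hom v inferInstance).surj
        (IsLocalRing.closedPoint _)).choose⟩
    obtain ⟨z⟩ := Scheme.nonempty_of_isLimit D' _ hc'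
    refine ⟨pullback.fst c.pt.hom v z, ?_⟩
    rw [← Scheme.Hom.comp_apply, pullback.condition, Scheme.Hom.comp_apply]
    exact Scheme.fromSpecResidueField_apply _ _

end Groth.Agent.TorsLim
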